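import Groth.Agent.ResolveInClassLib
import Mathlib

/-!
Injective amplitude in the derived category.
-/

set_option autoImplicit false
set_option backward.isDefEq.respectTransparency false
universe w v u

open CategoryTheory CategoryTheory.Limits CategoryTheory.Pretriangulated

noncomputable section

namespace Groth.Agent.InjAmp

variable {A : Type u} [Category.{v} A] [Abelian A] [HasDerivedCategory.{w} A]

/-- `Ext^i(Y, X) = 0` for all objects `Y`. -/
def Van (X : DerivedCategory A) (i : ℤ) : Prop :=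
  ∀ (Y : A) (φ : (DerivedCategory.singleFunctor A 0).obj Y ⟶ X⟦i⟧), φ = 0

lemma van_of_iso {X X' : DerivedCategory A} (e : X ≅ X') {i : ℤ} (h : Van X i) : Van X' i :=
  fun Y φ => by
    rw [← cancel_mono ((shiftFunctor (DerivedCategory A) i).mapIso e.symm).hom, zero_comp]
    exact h Y _

/-- The image in `D(A)` of a map out of a single complex. -/
def toD {K : CochainComplex A ℤ} {Y : A} (i : ℤ)
    (g : (CochainComplex.singleFunctor A 0).obj Y ⟶ K⟦i⟧) :
    (DerivedCategory.singleFunctor A 0).obj Y ⟶ (DerivedCategory.Q.obj K)⟦i⟧ :=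
  ((DerivedCategory.singleFunctorIsoCompQ A 0).app Y).hom ≫ DerivedCategory.Q.map g ≫
    (DerivedCategory.Q.commShiftIso i).hom.app K

lemma toD_eq_zero_iff {K : CochainComplex A ℤ} {Y : A} (i : ℤ)
    (g : (CochainComplex.singleFunctor A 0).obj Y ⟶ K⟦i⟧) :
    toD i g = 0 ↔ DerivedCategory.Q.map g = 0 := by
  simp [toD, ← Category.assoc]

lemma map_mkHom_eq_zero {K : CochainComplex A ℤ} {i : ℤ} (h : Van (DerivedCategory.Q.obj K) i)
    {Y : A} (g : (CochainComplex.singleFunctor A 0).obj Y ⟶ K⟦i⟧) :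
    DerivedCategory.Q.map g = 0 :=
  (toD_eq_zero_iff i g).1 (h Y _)

lemma isZero_homology_of_van {K : CochainComplex A ℤ} {i : ℤ}
    (h : Van (DerivedCategory.Q.obj K) i) : IsZero (K.homology i) := by
  let K' := K⟦i⟧
  refine IsZero.of_iso ?_
    (((HomologicalComplex.homologyFunctor A (ComplexShape.up ℤ) 0).shiftIso i 0 i (add_zero i)).app K).symm
  show IsZero (K'.homology 0)
  let g : (CochainComplex.singleFunctor A 0).obj (K'.cycles 0) ⟶ K' :=
    HomologicalComplex.mkHomFromSingle (K'.iCycles 0) (fun _ _ => K'.iCycles_d 0 _)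
  have h0 : HomologicalComplex.homologyMap g 0 = 0 := by
    have hn := (DerivedCategory.homologyFunctorFactors A 0).hom.naturality g
    simp only [Functor.comp_map, map_mkHom_eq_zero h g, Functor.map_zero, zero_comp,
      HomologicalComplex.homologyFunctor_map] at hn
    exact (cancel_epi _).1 (hn.symm.trans comp_zero.symm)
  have hc : HomologicalComplex.cyclesMap g 0 =
      (HomologicalComplex.singleObjCyclesSelfIso (ComplexShape.up ℤ) 0 (K'.cycles 0)).hom := by
    rw [← cancel_mono (K'.iCycles 0), HomologicalComplex.cyclesMap_i]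
    rw [HomologicalComplex.singleObjCyclesSelfIso_hom, Category.assoc]
    simp [g, CochainComplex.singleFunctor, CochainComplex.singleFunctors]
  have hπ : K'.homologyπ 0 = 0 := by
    haveI : IsIso (HomologicalComplex.cyclesMap g 0) := by rw [hc]; infer_instance
    rw [← cancel_epi (HomologicalComplex.cyclesMap g 0), comp_zero,
      ← HomologicalComplex.homologyπ_naturality, h0, comp_zero]
  rw [IsZero.iff_id_eq_zero, ← cancel_epi (K'.homologyπ 0), Category.comp_id, comp_zero, hπ]

lemma van_of_injective_of_isZero (I : CochainComplex A ℤ) (c : ℤ) [I.IsStrictlyGE c]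
    [∀ n, Injective (I.X n)] (i : ℤ) (h : IsZero (I.X i)) : Van (DerivedCategory.Q.obj I) i := by
  haveI := CochainComplex.isKInjective_of_injective I c
  intro Y φ
  let S := (CochainComplex.singleFunctor A 0).obj Y
  let q := HomotopyCategory.quotient A (ComplexShape.up ℤ)
  let qQ := DerivedCategory.quotientCompQhIso A
  obtain ⟨ψ, hψ⟩ := (CochainComplex.IsKInjective.Qh_map_bijective (q.obj S) (I⟦i⟧)).2
    (qQ.hom.app S ≫ ((DerivedCategory.singleFunctorIsoCompQ A 0).app Y).inv ≫ φ ≫
      (DerivedCategory.Q.commShiftIso i).inv.app I ≫ qQ.inv.app (I⟦i⟧))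
  have hψ0 : ψ = 0 := by
    obtain ⟨f, rfl⟩ := q.map_surjective ψ
    have : f = 0 := by
      ext j
      by_cases hj : j = 0
      · subst hj
        refine (h.of_iso (I.shiftFunctorObjXIso i 0 i (by lia))).eq_of_tgt _ _
      · exact (HomologicalComplex.isZero_single_obj_X (ComplexShape.up ℤ) 0 Y j hj).eq_of_src _ _
    rw [this, q.map_zero]
  rw [hψ0, Functor.map_zero] at hψ
  simpa using hψ.symm

/-- With vanishing in degree `i`, cocycles in degree `i` are coboundaries. -/
lemma exists_section (I : CochainComplex A ℤ) (c : ℤ) [I.IsStrictlyGE c]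
    [∀ n, Injective (I.X n)] (i₀ i : ℤ) (hi : i₀ + 1 = i) (h : Van (DerivedCategory.Q.obj I) i) :
    ∃ s : I.cycles i ⟶ I.X i₀, s ≫ I.d i₀ i = I.iCycles i := by
  haveI := CochainComplex.isKInjective_of_injective I c
  let K' := I⟦i⟧
  let e : K'.X 0 ≅ I.X i := I.shiftFunctorObjXIso i 0 i (by lia)
  let e₀ : K'.X (-1) ≅ I.X i₀ := I.shiftFunctorObjXIso i (-1) i₀ (by lia)
  have hd : K'.d (-1) 0 = i.negOnePow • (e₀.hom ≫ I.d i₀ i ≫ e.inv) := by
    show i.negOnePow • I.d (-1 + i) (0 + i) = _
    congr 1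
    simp [e₀, e]
  have hz : ∀ k : ℤ, (I.iCycles i ≫ e.inv) ≫ K'.d 0 k = 0 := by
    intro k
    show (I.iCycles i ≫ e.inv) ≫ (i.negOnePow • I.d (0 + i) (k + i)) = 0
    simp [e]
  let g : (CochainComplex.singleFunctor A 0).obj (I.cycles i) ⟶ K' :=
    HomologicalComplex.mkHomFromSingle (I.iCycles i ≫ e.inv) (fun k _ => hz k)
  let q := HomotopyCategory.quotient A (ComplexShape.up ℤ)
  have hg : q.map g = 0 := by
    refine (CochainComplex.IsKInjective.Qh_map_bijective _ K').1 ?_
    have := (DerivedCategory.quotientCompQhIso A).hom.naturality g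
    rw [map_mkHom_eq_zero h g, comp_zero] at this
    rw [Functor.map_zero]
    exact (cancel_mono ((DerivedCategory.quotientCompQhIso A).hom.app K')).1 (this.trans zero_comp.symm)
  let H : Homotopy g 0 := HomotopyCategory.homotopyOfEq g 0 (hg.trans (q.map_zero _ _).symm)
  refine ⟨i.negOnePow • ((HomologicalComplex.singleObjXSelf (ComplexShape.up ℤ) 0 (I.cycles i)).inv ≫
    H.hom 0 (-1) ≫ e₀.hom), ?_⟩
  have hc := H.comm 0
  rw [prevD_eq _ (show (ComplexShape.up ℤ).Rel (-1) 0 by simp),
    dNext_eq _ (show (ComplexShape.up ℤ).Rel 0 1 by simp)] at hc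
  simp only [CochainComplex.singleFunctor, CochainComplex.singleFunctors,
    HomologicalComplex.single_obj_d, zero_comp, zero_add, HomologicalComplex.zero_f, add_zero] at hc
  change g.f 0 = _ at hc
  rw [hd, HomologicalComplex.mkHomFromSingle_f] at hc
  replace hc := (HomologicalComplex.singleObjXSelf (ComplexShape.up ℤ) 0 (I.cycles i)).inv ≫= (hc =≫ e.hom)
  simp only [Category.assoc, Iso.inv_hom_id_assoc, Linear.comp_units_smul, Linear.units_smul_comp,
    Iso.inv_hom_id, Category.comp_id] at hc ⊢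
  exact hc.symm

/-- `isGE` complexes with vanishing `Ext` have bounded injective representatives. -/
theorem exists_rep [EnoughInjectives A] (K : CochainComplex A ℤ) (a b : ℤ) [K.IsGE a] (hab : a ≤ b)
    (h : ∀ i, b < i → Van (DerivedCategory.Q.obj K) i) :
    ∃ I : CochainComplex A ℤ, (∀ i, Injective (I.X i)) ∧ I.IsStrictlyGE a ∧ I.IsStrictlyLE b ∧
      Nonempty (DerivedCategory.Q.obj I ≅ DerivedCategory.Q.obj K) := by
  obtain ⟨L, α, hL, hinj, hα⟩ := ResolveInClassLib.exists_quasiIso (fun X : A => Injective X)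
    ⟨_, isZero_zero A, (isZero_zero A).injective⟩
    (fun X => ⟨Injective.under X, Injective.ι X, inferInstance, inferInstance⟩) K a
  haveI := hinj
  haveI := hα
  haveI := hL
  let e := asIso (DerivedCategory.Q.map α)
  have hvan : ∀ i, b < i → Van (DerivedCategory.Q.obj L) i := fun i hi => van_of_iso e (h i hi)
  haveI : L.IsLE b := (L.isLE_iff b).2 fun i hi =>
    (HomologicalComplex.exactAt_iff_isZero_homology _ _).2 (isZero_homology_of_van (hvan i hi))
  haveI : QuasiIso (L.ιTruncLE b) := (CochainComplex.quasiIso_ιTruncLE_iff L b).2 inferInstance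
  obtain ⟨s, hs⟩ := exists_section L a b (b + 1) rfl (hvan (b + 1) (by lia))
  let t : L.X b ⟶ L.X b := 𝟙 _ - L.liftCycles (L.d b (b + 1)) (b + 1 + 1) (by simp) (by simp) ≫ s
  have ht : t ≫ L.d b (b + 1) = 0 := by
    simp [t, Category.assoc, hs]
  let r : L.X b ⟶ L.cycles b := L.liftCycles t (b + 1) (by simp) ht
  have hr : L.iCycles b ≫ r = 𝟙 _ := by
    have hz : L.iCycles b ≫ L.liftCycles (L.d b (b + 1)) (b + 1 + 1) (by simp) (by simp) = 0 := by
      rw [← cancel_mono (L.iCycles (b + 1))]
      simp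
    rw [← cancel_mono (L.iCycles b)]
    simp [r, t, reassoc_of% hz]
  have hGE : (L.truncLE b).IsStrictlyGE a := (CochainComplex.isStrictlyGE_iff _ _).2 fun i hi =>
    (L.isZero_of_isStrictlyGE a i hi).of_iso (L.truncLEXIso b i (by lia))
  refine ⟨L.truncLE b, fun i => ?_, hGE, inferInstance,
    ⟨asIso (DerivedCategory.Q.map (L.ιTruncLE b)) ≪≫ e.symm⟩⟩
  rcases lt_trichotomy i b with hi | rfl | hi
  · exact Injective.of_iso (L.truncLEXIso b i hi).symm (hinj i)
  · exact Injective.of_iso (L.truncLEXIsoCycles i).symm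
      ({ i := L.iCycles i, r := r, retract := hr } : Retract (L.cycles i) (L.X i)).injective
  · exact ((L.truncLE b).isZero_of_isStrictlyLE b i hi).injective

lemma van_of_triangle (T : Triangle (DerivedCategory A)) (hT : T ∈ distTriang (DerivedCategory A))
    {i : ℤ} (h₁ : Van T.obj₁ i) (h₃ : Van T.obj₃ i) : Van T.obj₂ i := by
  intro Y φ
  have hTi := Triangle.shift_distinguished T hT i
  obtain ⟨ψ, hψ⟩ := Triangle.coyoneda_exact₂ _ hTi φ (h₃ Y _)
  refine hψ.trans ?_
  rw [h₁ Y ψ]
  exact zero_comp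

lemma isGE_of_van {K : CochainComplex A ℤ} {a : ℤ}
    (h : ∀ i, i < a → Van (DerivedCategory.Q.obj K) i) : K.IsGE a :=
  (K.isGE_iff a).2 fun i hi =>
    (HomologicalComplex.exactAt_iff_isZero_homology _ _).2 (isZero_homology_of_van (h i hi))

end Groth.Agent.InjAmp
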